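import Groth.Prelude.Def_GrSeg
import Groth.Agent.Lib.Graded.Basic
import Mathlib

/-! The graded dual over a field: pairing, reflexivity, chain conditions. -/

set_option autoImplicit false
set_option linter.unusedSectionVars false
universe u

open DirectSum Groth.Agent.Lib.Graded.Basic

namespace Groth.Agent.H83.GrDual

variable {k : Type u} [Field k] {R : Type u} [CommRing R] [Algebra k R]
  (𝒜 : ℤ → Submodule k R) [GradedAlgebra 𝒜]

section Piece

variable {M : Type u} [AddCommGroup M] [Module R M] [Module k M] [IsScalarTower k R M]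
  {τ : Type u} [SetLike τ M] [AddSubgroupClass τ M] (ℳ : ℤ → τ) [DirectSum.Decomposition ℳ]
  [SetLike.GradedSMul 𝒜 ℳ]

include 𝒜 in
theorem smul_mem_piece {g : ℤ} {x : M} (hx : x ∈ ℳ g) (c : k) : c • x ∈ ℳ g := by
  rw [← algebraMap_smul R c x]
  exact smul_mem' 𝒜 ℳ (SetLike.algebraMap_mem_graded 𝒜 c) hx (zero_add g)

include 𝒜 in
theorem proj_smul_const (g : ℤ) (c : k) (x : M) : proj ℳ g (c • x) = c • proj ℳ g x := by
  rw [← algebraMap_smul R c x, proj_smul_of_mem 𝒜 ℳ (SetLike.algebraMap_mem_graded 𝒜 c), sub_zero,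
    algebraMap_smul]

/-- The component, as a `k`-linear map. -/
noncomputable def projL (g : ℤ) : M →ₗ[k] M where
  toFun := proj ℳ g
  map_add' := map_add _
  map_smul' := proj_smul_const 𝒜 ℳ g

theorem projL_apply (g : ℤ) (x : M) : projL 𝒜 ℳ g x = proj ℳ g x := rfl

/-- A piece, as a `k`-subspace. -/
def pieceK (g : ℤ) : Submodule k M where
  carrier := {x | x ∈ ℳ g}
  add_mem' := add_mem
  zero_mem' := zero_mem _
  smul_mem' c _ hx := smul_mem_piece 𝒜 ℳ hx c

variable (hposR : ∀ n : ℤ, n < 0 → 𝒜 n = ⊥) (h0R : 𝒜 0 = Submodule.span k {(1 : R)})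

/-- The `R`-submodule of elements of degree at least `m` whose component of degree `m` lies in `V`. -/
def geSub (m : ℤ) (V : Submodule k M) (hpos : ∀ n : ℤ, n < 0 → 𝒜 n = ⊥)
    (h0 : 𝒜 0 = Submodule.span k {(1 : R)}) : Submodule R M where
  carrier := {x | (∀ j, j < m → proj ℳ j x = 0) ∧ proj ℳ m x ∈ V}
  add_mem' := fun {a b} ha hb => ⟨fun j hj => by rw [map_add, ha.1 j hj, hb.1 j hj, add_zero],
    by rw [map_add]; exact V.add_mem ha.2 hb.2⟩
  zero_mem' := ⟨fun j _ => map_zero _, by rw [map_zero]; exact V.zero_mem⟩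
  smul_mem' r x hx := by
    induction r using induction_hom 𝒜 with
    | zero => simp
    | add a b ha hb =>
      refine ⟨fun j hj => ?_, ?_⟩
      · rw [add_smul, map_add, ha.1 j hj, hb.1 j hj, add_zero]
      · rw [add_smul, map_add]; exact V.add_mem ha.2 hb.2
    | hom i r hr =>
      rcases lt_trichotomy i 0 with hi | hi | hi
      · rw [hpos i hi, Submodule.mem_bot] at hr
        subst hr; simp
      · subst hi
        rw [h0, Submodule.mem_span_singleton] at hr
        obtain ⟨c, rfl⟩ := hr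
        refine ⟨fun j hj => ?_, ?_⟩
        · rw [smul_assoc, one_smul, proj_smul_const 𝒜 ℳ, hx.1 j hj, smul_zero]
        · rw [smul_assoc, one_smul, proj_smul_const 𝒜 ℳ]; exact V.smul_mem c hx.2
      · refine ⟨fun j hj => ?_, ?_⟩
        · rw [proj_smul_of_mem 𝒜 ℳ hr, hx.1 (j - i) (by omega), smul_zero]
        · rw [proj_smul_of_mem 𝒜 ℳ hr, hx.1 (m - i) (by omega), smul_zero]; exact V.zero_mem

include hposR h0R in
theorem geSub_strictMono (m : ℤ) :
    StrictMono (fun W : Submodule k (pieceK 𝒜 ℳ m) =>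
      geSub 𝒜 ℳ m (W.map (pieceK 𝒜 ℳ m).subtype) hposR h0R) := by
  intro W W' h
  refine lt_of_le_not_ge ?_ fun hle => ?_
  · exact fun x hx => ⟨hx.1, Submodule.map_mono h.le hx.2⟩
  · obtain ⟨w, hw, hw'⟩ := SetLike.exists_of_lt h
    have hwm : (w : M) ∈ ℳ m := w.2
    have : (w : M) ∈ geSub 𝒜 ℳ m (W.map (pieceK 𝒜 ℳ m).subtype) hposR h0R := by
      refine hle ⟨fun j hj => proj_of_mem_ne ℳ hwm (by omega), ?_⟩
      rw [proj_of_mem ℳ hwm]
      exact ⟨w, hw, rfl⟩
    have h2 := this.2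
    rw [proj_of_mem ℳ hwm] at h2
    obtain ⟨w'', hw'', he⟩ := h2
    exact hw' (Subtype.ext he ▸ hw'')

include hposR h0R in
theorem finite_piece_of_noetherian [IsNoetherian R M] (m : ℤ) : Module.Finite k (pieceK 𝒜 ℳ m) := by
  have : IsNoetherian k (pieceK 𝒜 ℳ m) := by
    rw [isNoetherian_iff]
    exact (InvImage.wf _ (isNoetherian_iff.mp (inferInstance : IsNoetherian R M))).mono
      fun W W' h => geSub_strictMono 𝒜 ℳ hposR h0R m h
  infer_instance

include hposR h0R in
theorem finite_piece_of_artinian [IsArtinian R M] (m : ℤ) : Module.Finite k (pieceK 𝒜 ℳ m) := by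
  have : IsArtinian k (pieceK 𝒜 ℳ m) := by
    rw [isArtinian_iff]
    exact (InvImage.wf _ ((isArtinian_iff R M).mp inferInstance)).mono
      fun W W' h => geSub_strictMono 𝒜 ℳ hposR h0R m h
  exact IsSemisimpleModule.finite_tfae.out 2 0 |>.mp this

include 𝒜 hposR in
theorem exists_bound [Module.Finite R M] : ∃ b : ℤ, ∀ g, g < b → ∀ x ∈ ℳ g, x = 0 := by
  classical
  obtain ⟨t, ht⟩ := (inferInstance : Module.Finite R M)
  obtain ⟨b, hb⟩ := (t.biUnion fun y => supp ℳ y).bddBelow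
  refine ⟨b, fun g hg x hx => ?_⟩
  suffices ∀ y : M, ∀ j, j < b → proj ℳ j y = 0 by
    rw [← proj_of_mem ℳ hx]; exact this x g hg
  intro y
  have hy : y ∈ Submodule.span R (t : Set M) := ht ▸ Submodule.mem_top
  induction hy using Submodule.span_induction with
  | zero => intro j _; exact map_zero _
  | add u v _ _ hu hv => intro j hj; rw [map_add, hu j hj, hv j hj, add_zero]
  | smul r u _ hu =>
    induction r using induction_hom 𝒜 with
    | zero => intro j _; rw [zero_smul, map_zero]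
    | add a a' ha ha' => intro j hj; rw [add_smul, map_add, ha j hj, ha' j hj, add_zero]
    | hom i r hr =>
      intro j hj
      rcases lt_or_ge i 0 with hi | hi
      · rw [hposR i hi, Submodule.mem_bot] at hr
        subst hr; simp
      · rw [proj_smul_of_mem 𝒜 ℳ hr, hu (j - i) (by omega), smul_zero]
  | mem u hu =>
    intro j hj
    by_contra hne
    have := hb (Finset.mem_coe.mpr (Finset.mem_biUnion.mpr ⟨u, hu, (mem_supp ℳ).mpr hne⟩))
    omega

end Piece

section Pairing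

variable {M : Type u} [AddCommGroup M] [Module R M] [Module k M] [IsScalarTower k R M]
  {τ : Type u} [SetLike τ M] [AddSubgroupClass τ M] {ℳ : ℤ → τ} [DirectSum.Decomposition ℳ]
  [SetLike.GradedSMul 𝒜 ℳ]
  {D : Type u} [AddCommGroup D] [Module R D] [Module k D] [IsScalarTower k R D]
  {τ' : Type u} [SetLike τ' D] [AddSubgroupClass τ' D] {𝒟 : ℤ → τ'} [DirectSum.Decomposition 𝒟]
  [SetLike.GradedSMul 𝒜 𝒟]
  {β : D →ₗ[k] M →ₗ[k] k} (hD : GrSeg.IsGDual R ℳ 𝒟 β)

include hD in
omit [SetLike.GradedSMul 𝒜 ℳ] [SetLike.GradedSMul 𝒜 𝒟] in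
theorem pair_left {g : ℤ} {x : M} (hx : x ∈ ℳ g) (d : D) : β d x = β (proj 𝒟 (-g) d) x := by
  induction d using induction_hom 𝒟 with
  | zero => simp
  | add a b ha hb => rw [map_add, LinearMap.add_apply, ha, hb, map_add, map_add, LinearMap.add_apply]
  | hom n d hd =>
    rcases eq_or_ne n (-g) with rfl | hne
    · rw [proj_of_mem 𝒟 hd]
    · rw [proj_of_mem_ne 𝒟 hd hne, map_zero, LinearMap.zero_apply, hD.vanish n d hd g (by omega) x hx]

include hD in
omit [SetLike.GradedSMul 𝒜 ℳ] [SetLike.GradedSMul 𝒜 𝒟] in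
theorem pair_right {n : ℤ} {d : D} (hd : d ∈ 𝒟 n) (x : M) : β d x = β d (proj ℳ (-n) x) := by
  induction x using induction_hom ℳ with
  | zero => simp
  | add a b ha hb => rw [map_add, ha, hb, map_add, map_add]
  | hom g x hx =>
    rcases eq_or_ne g (-n) with rfl | hne
    · rw [proj_of_mem ℳ hx]
    · rw [proj_of_mem_ne ℳ hx hne, map_zero, hD.vanish n d hd g hne x hx]

include hD in
omit [SetLike.GradedSMul 𝒜 ℳ] [SetLike.GradedSMul 𝒜 𝒟] in
theorem eq_zero_of_pair {d : D} (h : ∀ x, β d x = 0) : d = 0 := by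
  refine eq_zero_of_proj 𝒟 fun n => hD.eq_zero n _ (proj_mem 𝒟 n d) fun x hx => ?_
  have := pair_left hD hx d
  rw [neg_neg] at this
  rw [← this, h]

include hD in
omit [SetLike.GradedSMul 𝒜 ℳ] [SetLike.GradedSMul 𝒜 𝒟] in
theorem eq_of_pair {d e : D} (h : ∀ x, β d x = β e x) : d = e :=
  sub_eq_zero.mp (eq_zero_of_pair hD fun x => by rw [map_sub, LinearMap.sub_apply, h, sub_self])

include hD in
omit [SetLike.GradedSMul 𝒜 ℳ] [SetLike.GradedSMul 𝒜 𝒟] in
theorem eq_zero_of_pair_right {x : M} (h : ∀ d, β d x = 0) : x = 0 := by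
  refine eq_zero_of_proj ℳ fun g => ?_
  by_contra hne
  obtain ⟨ψ, hψ, -⟩ := Submodule.exists_le_ker_of_notMem
    (p := (⊥ : Submodule k M)) (fun hc => hne ((Submodule.mem_bot k).mp hc))
  obtain ⟨d, hd, hde⟩ := hD.exists_eq (-g) ψ
  refine hψ ?_
  rw [← hde _ (by rw [neg_neg]; exact proj_mem ℳ g x)]
  have := pair_right hD hd x
  rw [neg_neg] at this
  rw [← this, h]

include hD in
omit [SetLike.GradedSMul 𝒜 ℳ] [SetLike.GradedSMul 𝒜 𝒟] in
theorem eq_of_pair_right {x y : M} (h : ∀ d, β d x = β d y) : x = y :=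
  sub_eq_zero.mp (eq_zero_of_pair_right hD fun d => by rw [map_sub, h, sub_self])

include 𝒜 hD in
theorem flip (hfin : ∀ g, Module.Finite k (pieceK 𝒜 ℳ g)) : GrSeg.IsGDual R 𝒟 ℳ β.flip := by
  refine ⟨fun r x d => ?_, fun g x hx n hn d hd => ?_, fun g x hx h => ?_, fun g ψ => ?_⟩
  · simp only [LinearMap.flip_apply, hD.map_smul]
  · exact hD.vanish n d hd g (by omega) x hx
  · refine eq_zero_of_pair_right hD fun d => ?_
    rw [pair_left hD hx d]
    exact h _ (proj_mem 𝒟 (-g) d)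
  · haveI := hfin g
    let T : pieceK 𝒜 ℳ g →ₗ[k] Module.Dual k (pieceK 𝒜 𝒟 (-g)) :=
      ((LinearMap.lcomp k k (pieceK 𝒜 𝒟 (-g)).subtype).comp β.flip).comp (pieceK 𝒜 ℳ g).subtype
    have hT : Function.Injective T := by
      rw [injective_iff_map_eq_zero]
      intro x hx
      apply Subtype.ext
      refine eq_zero_of_pair_right hD fun d => ?_
      rw [pair_left hD x.2 d]
      exact LinearMap.congr_fun hx ⟨_, proj_mem 𝒟 (-g) d⟩
    let S : pieceK 𝒜 𝒟 (-g) →ₗ[k] Module.Dual k (pieceK 𝒜 ℳ g) :=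
      ((LinearMap.lcomp k k (pieceK 𝒜 ℳ g).subtype).comp β).comp (pieceK 𝒜 𝒟 (-g)).subtype
    have hS : Function.Injective S := by
      rw [injective_iff_map_eq_zero]
      intro d hd
      apply Subtype.ext
      refine hD.eq_zero (-g) (d : D) d.2 fun x hx => ?_
      rw [neg_neg] at hx
      exact LinearMap.congr_fun hd ⟨x, hx⟩
    haveI : Module.Finite k (pieceK 𝒜 𝒟 (-g)) := Module.Finite.of_injective S hS
    have hsurj : Function.Surjective T := by
      refine (LinearMap.injective_iff_surjective_of_finrank_eq_finrank ?_).mp hT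
      refine le_antisymm (LinearMap.finrank_le_finrank_of_injective hT) ?_
      rw [Subspace.dual_finrank_eq]
      exact (LinearMap.finrank_le_finrank_of_injective hS).trans_eq Subspace.dual_finrank_eq
    obtain ⟨x, hx⟩ := hsurj (ψ.comp (pieceK 𝒜 𝒟 (-g)).subtype)
    exact ⟨x, x.2, fun d hd => LinearMap.congr_fun hx ⟨d, hd⟩⟩

include 𝒜 hD in
theorem exists_separating (hfin : ∀ g, Module.Finite k (pieceK 𝒜 ℳ g)) (n : ℤ) (V : Submodule k D) {d : D}
    (hd : d ∈ 𝒟 n) (hdV : d ∉ V) :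
    ∃ x ∈ ℳ (-n), β d x ≠ 0 ∧ ∀ v ∈ V, v ∈ 𝒟 n → β v x = 0 := by
  obtain ⟨ψ, hψ, hψV⟩ := Submodule.exists_le_ker_of_notMem hdV
  obtain ⟨x, hx, hxe⟩ := (flip 𝒜 hD hfin).exists_eq (-n) ψ
  rw [neg_neg] at hxe
  refine ⟨x, hx, ?_, fun v hv hvn => ?_⟩
  · have := hxe d hd
    rw [LinearMap.flip_apply] at this
    rwa [this]
  · have := hxe v hvn
    rw [LinearMap.flip_apply] at this
    rw [this]
    exact hψV hv

include 𝒜 hD in
theorem isArtinian_dual (hposR : ∀ n : ℤ, n < 0 → 𝒜 n = ⊥) (h0R : 𝒜 0 = Submodule.span k {(1 : R)})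
    [Module.Finite R M] [IsNoetherian R M] : IsArtinian R D := by
  classical
  have hfin := fun g => finite_piece_of_noetherian 𝒜 ℳ hposR h0R g
  obtain ⟨b, hb⟩ := exists_bound 𝒜 ℳ hposR
  have hzero : ∀ n, -b < n → ∀ d ∈ 𝒟 n, d = 0 := fun n hn d hd =>
    hD.eq_zero n d hd fun x hx => by rw [hb (-n) (by omega) x hx, map_zero]
  let Φ : Submodule R D → Submodule R M := fun P =>
    { carrier := {x | ∀ n : ℤ, ∀ d ∈ P, (∀ j, j < n → proj 𝒟 j d = 0) → β (proj 𝒟 n d) x = 0}
      add_mem' := fun {x y} hx hy n d hd hl => by rw [map_add, hx n d hd hl, hy n d hd hl, add_zero]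
      zero_mem' := fun n d _ _ => map_zero _
      smul_mem' := fun r x hx => by
        induction r using induction_hom 𝒜 with
        | zero => intro n d _ _; rw [zero_smul, map_zero]
        | add a c ha hc => intro n d hd hl; rw [add_smul, map_add, ha n d hd hl, hc n d hd hl, add_zero]
        | hom i r hr =>
          intro n d hd hl
          have h := hx (n + i) (r • d) (P.smul_mem r hd) fun j hj => by
            rw [proj_smul_of_mem 𝒜 𝒟 hr, hl (j - i) (by omega), smul_zero]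
          rw [proj_smul_of_mem 𝒜 𝒟 hr, add_sub_cancel_right, hD.map_smul] at h
          exact h }
  have hΦ : StrictAnti Φ := by
    intro P Q hPQ
    refine lt_of_le_not_ge (fun x hx n d hd hl => hx n d (hPQ.le hd) hl) fun hle => hPQ.not_ge fun d hd => ?_
    suffices ∀ l : ℕ, ∀ d ∈ Q, (∀ j : ℤ, j ≤ -b - l → proj 𝒟 j d = 0) → d ∈ P by
      obtain ⟨c, hc⟩ := (supp 𝒟 d).bddBelow
      refine this (-b - c + 1).toNat d hd fun j hj => ?_
      by_contra hne
      have := hc (Finset.mem_coe.mpr ((mem_supp 𝒟).mpr hne))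
      omega
    intro l
    induction l with
    | zero =>
      intro d _ hl
      have : d = 0 := eq_zero_of_proj 𝒟 fun j => by
        rcases le_or_gt j (-b) with hj | hj
        · exact hl j (by simpa using hj)
        · exact hzero j hj _ (proj_mem 𝒟 j d)
      rw [this]; exact P.zero_mem
    | succ l ih =>
      intro d hd hl
      set n : ℤ := -b - l
      let V : Submodule k D :=
        { carrier := {v | ∃ p ∈ P, (∀ j, j < n → proj 𝒟 j p = 0) ∧ proj 𝒟 n p = v}
          add_mem' := by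
            rintro _ _ ⟨p, hp, hpl, rfl⟩ ⟨q, hq, hql, rfl⟩
            exact ⟨p + q, P.add_mem hp hq, fun j hj => by rw [map_add, hpl j hj, hql j hj, add_zero], map_add _ _ _⟩
          zero_mem' := ⟨0, P.zero_mem, fun j _ => map_zero _, map_zero _⟩
          smul_mem' := by
            rintro c _ ⟨p, hp, hpl, rfl⟩
            exact ⟨c • p, P.smul_of_tower_mem c hp,
              fun j hj => by rw [proj_smul_const 𝒜 𝒟, hpl j hj, smul_zero], proj_smul_const 𝒜 𝒟 n c p⟩ }
      have hlow : ∀ j, j < n → proj 𝒟 j d = 0 := fun j hj => hl j (by push_cast; omega)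
      by_cases hV : proj 𝒟 n d ∈ V
      · obtain ⟨p, hp, hpl, hpe⟩ := hV
        have := ih (d - p) (Q.sub_mem hd (hPQ.le hp)) fun j hj => by
          rcases eq_or_lt_of_le hj with rfl | hj'
          · rw [map_sub, hpe, sub_self]
          · rw [map_sub, hlow j hj', hpl j hj', sub_zero]
        simpa using P.add_mem this hp
      · exfalso
        obtain ⟨x, hx, hxd, hxV⟩ := exists_separating 𝒜 hD hfin n V (proj_mem 𝒟 n d) hV
        refine hxd (hle (fun n' p hp hpl => ?_) n d hd hlow)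
        rcases eq_or_ne n' n with rfl | hne
        · exact hxV _ ⟨p, hp, hpl, rfl⟩ (proj_mem 𝒟 _ p)
        · exact hD.vanish n' _ (proj_mem 𝒟 n' p) (-n) (by omega) x hx
  rw [isArtinian_iff]
  exact (InvImage.wf _ (isNoetherian_iff.mp (inferInstance : IsNoetherian R M))).mono fun P Q h => hΦ h

include 𝒜 hD in
theorem finite_dual (hposR : ∀ n : ℤ, n < 0 → 𝒜 n = ⊥) (h0R : 𝒜 0 = Submodule.span k {(1 : R)})
    [IsArtinian R M] : Module.Finite R D := by
  classical
  have hfin := fun g => finite_piece_of_artinian 𝒜 ℳ hposR h0R g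
  let ann : Finset D → Submodule R M := fun s =>
    { carrier := {x | ∀ d ∈ Submodule.span R (s : Set D), β d x = 0}
      add_mem' := fun {x y} hx hy d hd => by rw [map_add, hx d hd, hy d hd, add_zero]
      zero_mem' := fun d _ => map_zero _
      smul_mem' := fun r x hx d hd => by rw [← hD.map_smul]; exact hx _ (Submodule.smul_mem _ r hd) }
  let S : Set (Submodule R M) := ann '' {s | ∀ d ∈ s, ∃ n, d ∈ 𝒟 n}
  obtain ⟨A, ⟨s, hs, rfl⟩, hmin⟩ := IsArtinian.set_has_minimal S ⟨_, ∅, by simp, rfl⟩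
  refine ⟨⟨s, top_unique fun d _ => ?_⟩⟩
  set P := Submodule.span R (s : Set D)
  have hP : P.IsHomogeneous 𝒟 := isHomogeneous_span 𝒜 𝒟 fun x hx => hs x hx
  rw [← sum_proj 𝒟 d]
  refine Submodule.sum_mem _ fun n _ => ?_
  set e := proj 𝒟 n d
  by_contra he
  obtain ⟨x, hx, hxe, hxV⟩ := exists_separating 𝒜 hD hfin n (P.restrictScalars k) (proj_mem 𝒟 n d) he
  have hle : ann (insert e s) ≤ ann s := fun y hy p hp =>
    hy p (Submodule.span_mono (Finset.coe_subset.mpr (Finset.subset_insert e s)) hp)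
  have hxs : x ∈ ann s := fun p hp => by
    rw [pair_left hD hx p, neg_neg]
    exact hxV _ (hP n hp) (proj_mem 𝒟 n p)
  refine hxe ?_
  have heq : ann (insert e s) = ann s := by
    by_contra hne
    refine hmin _ ⟨insert e s, fun y hy => ?_, rfl⟩ (lt_of_le_of_ne hle hne)
    rcases Finset.mem_insert.mp hy with rfl | hy
    · exact ⟨n, proj_mem 𝒟 n d⟩
    · exact hs y hy
  exact (heq ▸ hxs : x ∈ ann (insert e s)) e (Submodule.subset_span (Finset.mem_insert_self e s))

end Pairing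

section CoHom

variable {D : Type u} [AddCommGroup D] [Module R D] [Module k D] [IsScalarTower k R D]
  {𝒟 : ℤ → AddSubgroup D} [DirectSum.Decomposition 𝒟] [SetLike.GradedSMul 𝒜 𝒟]
  {β : D →ₗ[k] R →ₗ[k] k} (hD : GrSeg.IsGDual R 𝒜 𝒟 β)
  {M : Type u} [AddCommGroup M] [Module R M] [Module k M] [IsScalarTower k R M]
  {τ : Type u} [SetLike τ M] [AddSubgroupClass τ M] (ℳ : ℤ → τ) [DirectSum.Decomposition ℳ]
  [SetLike.GradedSMul 𝒜 ℳ]

include hD in
/-- The map into the dual of the ring attached to a functional on a piece. -/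
theorem exists_coHom (n : ℤ) (ψ : M →ₗ[k] k) :
    ∃ f : M →ₗ[R] D, (∀ x r, β (f x) r = ψ (proj ℳ n (r • x))) ∧ ∀ g, ∀ x ∈ ℳ g, f x ∈ 𝒟 (g - n) := by
  have hhom : ∀ g, ∀ x ∈ ℳ g, ∃ d ∈ 𝒟 (g - n), ∀ r, β d r = ψ (proj ℳ n (r • x)) := by
    intro g x hx
    let χ : R →ₗ[k] k :=
      ψ ∘ₗ projL 𝒜 ℳ n ∘ₗ ((LinearMap.toSpanSingleton R M x).restrictScalars k)
    obtain ⟨d, hd, hde⟩ := hD.exists_eq (g - n) χ
    refine ⟨d, hd, fun r => ?_⟩
    induction r using induction_hom 𝒜 with
    | zero => simp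
    | add a b ha hb => rw [map_add, ha, hb, add_smul, map_add, map_add]
    | hom j r hr =>
      rcases eq_or_ne j (-(g - n)) with rfl | hne
      · rw [hde r hr]; rfl
      · rw [hD.vanish _ d hd j hne r hr, proj_of_mem_ne ℳ (smul_mem' 𝒜 ℳ hr hx rfl) (by omega), map_zero]
  have hex : ∀ x, ∃ d, ∀ r, β d r = ψ (proj ℳ n (r • x)) := by
    intro x
    induction x using induction_hom ℳ with
    | zero => exact ⟨0, fun r => by simp⟩
    | hom g x hx => obtain ⟨d, -, hd⟩ := hhom g x hx; exact ⟨d, hd⟩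
    | add a b ha hb =>
      obtain ⟨d, hd⟩ := ha; obtain ⟨e, he⟩ := hb
      exact ⟨d + e, fun r => by rw [map_add, LinearMap.add_apply, hd, he, smul_add, map_add, map_add]⟩
  choose f hf using hex
  refine ⟨{ toFun := f, map_add' := fun x y => eq_of_pair hD fun r => ?_,
            map_smul' := fun a x => eq_of_pair hD fun r => ?_ }, hf, fun g x hx => ?_⟩
  · rw [map_add, LinearMap.add_apply, hf, hf, hf, smul_add, map_add, map_add]
  · rw [RingHom.id_apply, hD.map_smul, hf, hf, smul_eq_mul, mul_comm, mul_smul]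
  · obtain ⟨d, hd, hde⟩ := hhom g x hx
    have : f x = d := eq_of_pair hD fun r => by rw [hf, hde]
    show f x ∈ 𝒟 (g - n)
    rw [this]; exact hd

end CoHom

end Groth.Agent.H83.GrDual
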